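import Cfsg.Agent.Lib.Helper60.J3.Core

/-!
Certificates for explicit finite groups given by packed matrices: a generic layer.

A `Model` packs the elements of a monoid of matrices into natural numbers, with a
multiplication on packed values that the kernel evaluates quickly.  On top of it:
enumerated subgroups (`LData`), coset tables (`CData`) and Sylow subgroups with
normal-closure certificates (`SData`).
-/

set_option autoImplicit false

namespace Cfsg.Agent.Lib.Helper60.Cert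

open Cfsg.Agent.Lib.Helper60.J3 (closure_left_ind')

/-- check `f 0, ..., f (n-1)` -/
def allBelow (f : ℕ → Bool) : ℕ → Bool
  | 0 => true
  | n + 1 => f n && allBelow f n

theorem allBelow_spec (f : ℕ → Bool) (n : ℕ) (h : allBelow f n = true) :
    ∀ j < n, f j = true := by
  induction n with
  | zero => intro j hj; omega
  | succ n ih =>
    simp only [allBelow, Bool.and_eq_true] at h
    intro j hj
    rcases Nat.lt_succ_iff_lt_or_eq.mp hj with h1 | h1
    · exact ih h.2 j h1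
    · rw [h1]; exact h.1

theorem allBelow_off (f : ℕ → Bool) (lo n : ℕ)
    (h : allBelow (fun j => f (Nat.add lo j)) n = true) :
    ∀ j, lo ≤ j → j < lo + n → f j = true := by
  intro j h1 h2
  have := allBelow_spec _ n h (j - lo) (by omega)
  have e : Nat.add lo (j - lo) = j := by change lo + (j - lo) = j; omega
  rwa [e] at this

/-- a packed model of a monoid -/
structure Model (M : Type*) [Monoid M] where
  toM : ℕ → M
  mulP : ℕ → ℕ → ℕ
  oneP : ℕ
  key : ℕ → ℕ
  toM_mul : ∀ a b, toM (mulP a b) = toM a * toM b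
  toM_one : toM oneP = 1
  key_eq : ∀ a b, toM a = toM b → key a = key b

namespace Model

variable {M : Type*} [Monoid M] (μ : Model M)

/-- powers of a packed element -/
def powP (g : ℕ) : ℕ → ℕ
  | 0 => μ.oneP
  | n + 1 => μ.mulP (powP g n) g

theorem toM_powP (g n : ℕ) : μ.toM (μ.powP g n) = μ.toM g ^ n := by
  induction n with
  | zero => rw [powP, μ.toM_one, pow_zero]
  | succ n ih => rw [powP, μ.toM_mul, ih, pow_succ]

/-- the packed elements are different -/
def neq (a b : ℕ) : Bool := !(Nat.beq (μ.key a) (μ.key b))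

theorem toM_ne {a b : ℕ} (h : μ.neq a b = true) : μ.toM a ≠ μ.toM b := by
  intro e
  have h1 := μ.key_eq a b e
  unfold neq at h
  rw [h1] at h
  simp at h

theorem mul_eq {x y z : ℕ} (h : μ.mulP x y = z) : μ.toM x * μ.toM y = μ.toM z := by
  rw [← h, μ.toM_mul]

/-- evaluate a word in generators -/
def evalW (gen : ℕ → ℕ) (w : List ℕ) : ℕ := w.foldl (fun acc k => μ.mulP acc (gen k)) μ.oneP

end Model

section

variable {M : Type*} [Monoid M] (μ : Model M) {𝒢 : Type*} [Group 𝒢] (ψ : 𝒢 →* M)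

/-- `m` is the packed form of an element of `S` -/
def Real (S : Subgroup 𝒢) (m : ℕ) : Prop := ∃ g ∈ S, ψ g = μ.toM m

variable {μ ψ}

theorem Real.mul {S : Subgroup 𝒢} {a b : ℕ} (ha : Real μ ψ S a) (hb : Real μ ψ S b) :
    Real μ ψ S (μ.mulP a b) := by
  obtain ⟨g, hg, hga⟩ := ha
  obtain ⟨h, hh, hhb⟩ := hb
  exact ⟨g * h, S.mul_mem hg hh, by rw [map_mul, hga, hhb, μ.toM_mul]⟩

theorem Real.one (S : Subgroup 𝒢) : Real μ ψ S μ.oneP :=
  ⟨1, S.one_mem, by rw [map_one, μ.toM_one]⟩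

theorem Real.mono {S T : Subgroup 𝒢} (h : S ≤ T) {a : ℕ} (ha : Real μ ψ S a) : Real μ ψ T a := by
  obtain ⟨g, hg, hga⟩ := ha
  exact ⟨g, h hg, hga⟩

theorem Real.foldl {S : Subgroup 𝒢} (gen : ℕ → ℕ) (w : List ℕ)
    (h : ∀ k ∈ w, Real μ ψ S (gen k)) :
    ∀ acc, Real μ ψ S acc → Real μ ψ S (w.foldl (fun acc k => μ.mulP acc (gen k)) acc) := by
  induction w with
  | nil => intro acc h; exact h
  | cons a w ih =>
    intro acc hacc
    exact ih (fun k hk => h k (List.mem_cons_of_mem _ hk)) _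
      (hacc.mul (h a List.mem_cons_self))

theorem Real.evalW {S : Subgroup 𝒢} (gen : ℕ → ℕ) (w : List ℕ)
    (h : ∀ k ∈ w, Real μ ψ S (gen k)) : Real μ ψ S (μ.evalW gen w) :=
  Real.foldl gen w h _ (Real.one S)

theorem Real.of_eq {S : Subgroup 𝒢} {a b : ℕ} (h : a = b) (ha : Real μ ψ S a) : Real μ ψ S b :=
  h ▸ ha

variable (μ ψ)

/-- the subgroup generated by the elements whose packed form is one of `gen 0, ..., gen (r-1)` -/
def genGrp (gen : ℕ → ℕ) (r : ℕ) : Subgroup 𝒢 :=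
  Subgroup.closure {g | ∃ l < r, ψ g = μ.toM (gen l)}

variable {μ ψ}

theorem gen_real {gen : ℕ → ℕ} {r : ℕ} (hex : ∀ l < r, ∃ g, ψ g = μ.toM (gen l)) :
    ∀ l < r, Real μ ψ (genGrp μ ψ gen r) (gen l) := by
  intro l hl
  obtain ⟨g, hg⟩ := hex l hl
  exact ⟨g, Subgroup.subset_closure ⟨l, hl, hg⟩, hg⟩

theorem genGrp_le {gen : ℕ → ℕ} {r : ℕ} (hψ : Function.Injective ψ) (H : Subgroup 𝒢)
    (h : ∀ l < r, Real μ ψ H (gen l)) : genGrp μ ψ gen r ≤ H := by
  rw [genGrp, Subgroup.closure_le]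
  rintro g ⟨l, hl, hg⟩
  obtain ⟨g', hg', hv⟩ := h l hl
  have : g = g' := hψ (by rw [hg, hv])
  rw [this]; exact hg'

theorem pow_eq_one_of (hψ : Function.Injective ψ) {g : 𝒢} {m n : ℕ} (hg : ψ g = μ.toM m)
    (h : μ.powP m n = μ.oneP) : g ^ n = 1 := by
  apply hψ
  rw [map_pow, hg, ← μ.toM_powP, h, μ.toM_one, map_one]

theorem ne_one_of {g : 𝒢} {m : ℕ} (hg : ψ g = μ.toM m) (h : μ.neq m μ.oneP = true) : g ≠ 1 := by
  intro e
  rw [e, map_one, ← μ.toM_one] at hg
  exact μ.toM_ne h hg.symm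

theorem orderOf_eq_prime_of (hψ : Function.Injective ψ) {g : 𝒢} {m p : ℕ} [Fact p.Prime]
    (hg : ψ g = μ.toM m) (h1 : μ.powP m p = μ.oneP) (h2 : μ.neq m μ.oneP = true) :
    orderOf g = p :=
  orderOf_eq_prime (pow_eq_one_of hψ hg h1) (ne_one_of hg h2)

theorem prime_dvd_orderOf (hψ : Function.Injective ψ) {g : 𝒢} {m q e : ℕ} (hq : q.Prime)
    (hg : ψ g = μ.toM m) (h1 : μ.powP m (q * e) = μ.oneP)
    (h2 : μ.neq (μ.powP m e) μ.oneP = true) : q ∣ orderOf g := by
  have d1 : orderOf g ∣ q * e := orderOf_dvd_of_pow_eq_one (pow_eq_one_of hψ hg h1)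
  have d2 : ¬ orderOf g ∣ e := by
    intro h
    have h3 : g ^ e = 1 := orderOf_dvd_iff_pow_eq_one.mp h
    have h4 := congrArg ψ h3
    rw [map_pow, hg, ← μ.toM_powP, map_one, ← μ.toM_one] at h4
    exact μ.toM_ne h2 h4
  by_contra hn
  have hc : Nat.Coprime (orderOf g) q := ((Nat.Prime.coprime_iff_not_dvd hq).mpr hn).symm
  exact d2 (hc.dvd_of_dvd_mul_left d1)

end

/-! ### Enumerated subgroups -/

/-- the table of all elements of a subgroup generated by `r` elements -/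
structure LData where
  N : ℕ
  r : ℕ
  gen : ℕ → ℕ
  T : ℕ → ℕ
  nx : ℕ → ℕ → ℕ
  par : ℕ → ℕ
  lt : ℕ → ℕ

section

variable {M : Type*} [Monoid M] (μ : Model M)

def chkNx (D : LData) (j l : ℕ) : Bool :=
  Nat.beq (μ.mulP (D.gen l) (D.T j)) (D.T (D.nx l j)) && Nat.blt (D.nx l j) D.N

def chkNxAll (D : LData) (j : ℕ) : Bool := allBelow (chkNx μ D j) D.r

/-- parent check for index `j + 1` -/
def chkPar (D : LData) (j : ℕ) : Bool :=
  Nat.blt (D.par (Nat.succ j)) (Nat.succ j) && Nat.blt (D.lt (Nat.succ j)) D.r &&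
    Nat.beq (D.nx (D.lt (Nat.succ j)) (D.par (Nat.succ j))) (Nat.succ j)

def chkDist (D : LData) (i : ℕ) : Bool := allBelow (fun j => μ.neq (D.T i) (D.T j)) i

structure LOK (D : LData) : Prop where
  t0 : D.T 0 = μ.oneP
  npos : 0 < D.N
  nx : ∀ j < D.N, chkNxAll μ D j = true
  par : ∀ j < D.N - 1, chkPar D j = true
  inj : ∀ i < D.N, ∀ j < D.N, μ.toM (D.T i) = μ.toM (D.T j) → i = j

variable {μ}

theorem inj_of_dist {D : LData} (h : ∀ i < D.N, chkDist μ D i = true) :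
    ∀ i < D.N, ∀ j < D.N, μ.toM (D.T i) = μ.toM (D.T j) → i = j := by
  have key : ∀ i < D.N, ∀ j < i, μ.toM (D.T i) ≠ μ.toM (D.T j) := by
    intro i hi j hj
    exact μ.toM_ne (allBelow_spec _ _ (h i hi) j hj)
  intro i hi j hj h
  rcases Nat.lt_trichotomy i j with h1 | h1 | h1
  · exact absurd h.symm (key j hj i h1)
  · exact h1
  · exact absurd h (key i hi j h1)

/-- injectivity through a sorting permutation: the keys increase strictly along `ord` -/
theorem inj_of_sorted {D : LData} (ord pos : ℕ → ℕ)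
    (hpos : ∀ j < D.N, pos j < D.N ∧ ord (pos j) = j)
    (hlt : ∀ k, k + 1 < D.N → μ.key (D.T (ord k)) < μ.key (D.T (ord (k + 1)))) :
    ∀ i < D.N, ∀ j < D.N, μ.toM (D.T i) = μ.toM (D.T j) → i = j := by
  have mono : ∀ a b, a < b → b < D.N → μ.key (D.T (ord a)) < μ.key (D.T (ord b)) := by
    intro a b hab
    induction b with
    | zero => omega
    | succ b ih =>
      intro hb
      rcases Nat.lt_succ_iff_lt_or_eq.mp hab with h | h
      · exact lt_trans (ih h (by omega)) (hlt b hb)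
      · rw [h]; exact hlt b hb
  intro i hi j hj h
  have hk := μ.key_eq _ _ h
  obtain ⟨hpi, hoi⟩ := hpos i hi
  obtain ⟨hpj, hoj⟩ := hpos j hj
  rcases Nat.lt_trichotomy (pos i) (pos j) with h1 | h1 | h1
  · have := mono _ _ h1 hpj
    rw [hoi, hoj, hk] at this
    exact absurd this (lt_irrefl _)
  · rw [← hoi, ← hoj, h1]
  · have := mono _ _ h1 hpi
    rw [hoi, hoj, hk] at this
    exact absurd this (lt_irrefl _)

variable {𝒢 : Type*} [Group 𝒢] {ψ : 𝒢 →* M} {D : LData} (ok : LOK μ D)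

include ok in
theorem chkNx_spec : ∀ j < D.N, ∀ l < D.r,
    μ.mulP (D.gen l) (D.T j) = D.T (D.nx l j) ∧ D.nx l j < D.N := by
  intro j hj l hl
  have h := allBelow_spec _ _ (ok.nx j hj) l hl
  simp only [chkNx, Bool.and_eq_true, Nat.blt_eq] at h
  exact ⟨Nat.eq_of_beq_eq_true h.1, h.2⟩

include ok in
theorem L_sub [Finite 𝒢] : ∀ g ∈ genGrp μ ψ D.gen D.r, ∃ j < D.N, ψ g = μ.toM (D.T j) := by
  apply closure_left_ind'
  · intro g _
    exact isOfFinOrder_of_finite g
  · exact ⟨0, ok.npos, by rw [ok.t0, μ.toM_one, map_one]⟩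
  · rintro g ⟨l, hl, hg⟩ k ⟨j, hj, hk⟩
    obtain ⟨h1, h2⟩ := chkNx_spec ok j hj l hl
    exact ⟨D.nx l j, h2, by rw [map_mul, hk, hg, μ.mul_eq h1]⟩

include ok in
theorem L_sup (hex : ∀ l < D.r, ∃ g, ψ g = μ.toM (D.gen l)) :
    ∀ j < D.N, Real μ ψ (genGrp μ ψ D.gen D.r) (D.T j) := by
  intro j
  induction j using Nat.strong_induction_on with
  | _ j ih =>
    intro hj
    rcases Nat.eq_zero_or_pos j with rfl | hpos
    · rw [ok.t0]; exact Real.one _
    · obtain ⟨j', rfl⟩ : ∃ j', j = j' + 1 := ⟨j - 1, by omega⟩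
      have h := ok.par j' (by omega)
      simp only [chkPar, Bool.and_eq_true, Nat.blt_eq, Nat.succ_eq_add_one] at h
      obtain ⟨⟨hp, hl⟩, h2⟩ := h
      have e := Nat.eq_of_beq_eq_true h2
      have hpl : D.par (j' + 1) < D.N := lt_trans hp hj
      have hk := ih _ hp hpl
      have hg := gen_real hex _ hl
      obtain ⟨h4, _⟩ := chkNx_spec ok _ hpl _ hl
      rw [e] at h4
      exact (hg.mul hk).of_eq h4

include ok in
theorem card_L_le [Finite 𝒢] (hψ : Function.Injective ψ) : Nat.card (genGrp μ ψ D.gen D.r) ≤ D.N := by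
  choose f hf using fun k : genGrp μ ψ D.gen D.r => L_sub ok k.1 k.2
  have hinj : Function.Injective
      (fun k : genGrp μ ψ D.gen D.r => (⟨f k, (hf k).1⟩ : Fin D.N)) := by
    intro a b hab
    have h1 : f a = f b := congrArg Fin.val hab
    apply Subtype.ext
    apply hψ
    rw [(hf a).2, (hf b).2, h1]
  have := Nat.card_le_card_of_injective _ hinj
  rwa [Nat.card_fin] at this

include ok in
theorem card_L [Finite 𝒢] (hψ : Function.Injective ψ) (hex : ∀ l < D.r, ∃ g, ψ g = μ.toM (D.gen l)) :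
    Nat.card (genGrp μ ψ D.gen D.r) = D.N := by
  choose f hf hfv using fun j : Fin D.N => L_sup ok hex j.1 j.2
  have hbij : Function.Bijective
      (fun j : Fin D.N => (⟨f j, hf j⟩ : genGrp μ ψ D.gen D.r)) := by
    constructor
    · intro a b hab
      have h1 : f a = f b := congrArg Subtype.val hab
      have h2 : μ.toM (D.T a) = μ.toM (D.T b) := by rw [← hfv a, ← hfv b, h1]
      exact Fin.ext (ok.inj _ a.2 _ b.2 h2)
    · intro g
      obtain ⟨j, hj, hjv⟩ := L_sub ok g.1 g.2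
      refine ⟨⟨j, hj⟩, ?_⟩
      apply Subtype.ext
      apply hψ
      rw [hjv]
      exact hfv ⟨j, hj⟩
  rw [← Nat.card_eq_of_bijective _ hbij, Nat.card_fin]

end

/-! ### Coset tables -/

/-- a table of coset representatives for a subgroup generated by `r` elements -/
structure CData where
  n : ℕ
  r : ℕ
  gen : ℕ → ℕ
  C : ℕ → ℕ
  s : ℕ → ℕ → ℕ
  w : ℕ → ℕ → ℕ
  par : ℕ → ℕ
  lt : ℕ → ℕ

section

variable {M : Type*} [Monoid M] (μ : Model M)

def chkC (D : CData) (i l : ℕ) : Bool :=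
  Nat.beq (μ.mulP (D.gen l) (D.C i)) (μ.mulP (D.C (D.s l i)) (D.w l i)) && Nat.blt (D.s l i) D.n

def chkCAll (D : CData) (i : ℕ) : Bool := allBelow (chkC μ D i) D.r

/-- parent check for index `i + 1` -/
def chkCPar (D : CData) (i : ℕ) : Bool :=
  Nat.blt (D.par (Nat.succ i)) (Nat.succ i) && Nat.blt (D.lt (Nat.succ i)) D.r &&
    Nat.beq (D.s (D.lt (Nat.succ i)) (D.par (Nat.succ i))) (Nat.succ i) &&
    Nat.beq (D.w (D.lt (Nat.succ i)) (D.par (Nat.succ i))) μ.oneP

structure COK (D : CData) : Prop where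
  c0 : D.C 0 = μ.oneP
  npos : 0 < D.n
  step : ∀ i < D.n, chkCAll μ D i = true
  par : ∀ i < D.n - 1, chkCPar μ D i = true

variable {μ}
variable {𝒢 : Type*} [Group 𝒢] {ψ : 𝒢 →* M} {D : CData} (ok : COK μ D)

include ok in
theorem chkC_spec : ∀ i < D.n, ∀ l < D.r,
    μ.mulP (D.gen l) (D.C i) = μ.mulP (D.C (D.s l i)) (D.w l i) ∧ D.s l i < D.n := by
  intro i hi l hl
  have h := allBelow_spec _ _ (ok.step i hi) l hl
  simp only [chkC, Bool.and_eq_true, Nat.blt_eq] at h
  exact ⟨Nat.eq_of_beq_eq_true h.1, h.2⟩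

include ok in
theorem C_sub [Finite 𝒢] (L : Subgroup 𝒢) (hw : ∀ l < D.r, ∀ i < D.n, Real μ ψ L (D.w l i)) :
    ∀ h ∈ genGrp μ ψ D.gen D.r, ∃ i < D.n, ∃ k ∈ L, ψ h = μ.toM (D.C i) * ψ k := by
  apply closure_left_ind'
  · intro g _
    exact isOfFinOrder_of_finite g
  · exact ⟨0, ok.npos, 1, L.one_mem, by rw [ok.c0, μ.toM_one, map_one, mul_one]⟩
  · rintro g ⟨l, hl, hg⟩ h ⟨i, hi, k, hk, hv⟩
    obtain ⟨h1, h2⟩ := chkC_spec ok i hi l hl
    obtain ⟨k', hk', hkv'⟩ := hw l hl i hi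
    refine ⟨D.s l i, h2, k' * k, L.mul_mem hk' hk, ?_⟩
    rw [map_mul, hv, hg, ← mul_assoc, ← μ.toM_mul, h1, μ.toM_mul, map_mul, hkv', mul_assoc]

include ok in
theorem C_sup (hex : ∀ l < D.r, ∃ g, ψ g = μ.toM (D.gen l)) :
    ∀ i < D.n, Real μ ψ (genGrp μ ψ D.gen D.r) (D.C i) := by
  intro i
  induction i using Nat.strong_induction_on with
  | _ i ih =>
    intro hi
    rcases Nat.eq_zero_or_pos i with rfl | hpos
    · rw [ok.c0]; exact Real.one _
    · obtain ⟨i', rfl⟩ : ∃ i', i = i' + 1 := ⟨i - 1, by omega⟩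
      have h := ok.par i' (by omega)
      simp only [chkCPar, Bool.and_eq_true, Nat.blt_eq, Nat.succ_eq_add_one] at h
      obtain ⟨⟨⟨hp, hl⟩, h2⟩, h3⟩ := h
      have e2 := Nat.eq_of_beq_eq_true h2
      have e3 := Nat.eq_of_beq_eq_true h3
      have hpl : D.par (i' + 1) < D.n := lt_trans hp hi
      obtain ⟨k, hk, hkv⟩ := ih _ hp hpl
      obtain ⟨g, hg, hgv⟩ := gen_real hex _ hl
      obtain ⟨h4, _⟩ := chkC_spec ok _ hpl _ hl
      rw [e2, e3] at h4
      refine ⟨g * k, Subgroup.mul_mem _ hg hk, ?_⟩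
      rw [map_mul, hkv, hgv, ← μ.toM_mul, h4, μ.toM_mul, μ.toM_one, mul_one]

include ok in
theorem card_C_le [Finite 𝒢] (hψ : Function.Injective ψ) (L : Subgroup 𝒢)
    (hw : ∀ l < D.r, ∀ i < D.n, Real μ ψ L (D.w l i)) :
    Nat.card (genGrp μ ψ D.gen D.r) ≤ D.n * Nat.card L := by
  choose f hf k hk hv using fun h : genGrp μ ψ D.gen D.r => C_sub ok L hw h.1 h.2
  have hinj : Function.Injective
      (fun h : genGrp μ ψ D.gen D.r => ((⟨f h, hf h⟩ : Fin D.n), (⟨k h, hk h⟩ : L))) := by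
    intro a b hab
    have h1 : f a = f b := congrArg Fin.val (congrArg Prod.fst hab)
    have h2 : k a = k b := congrArg Subtype.val (congrArg Prod.snd hab)
    apply Subtype.ext
    apply hψ
    rw [hv a, hv b, h1, h2]
  have := Nat.card_le_card_of_injective _ hinj
  rwa [Nat.card_prod, Nat.card_fin] at this

end

end Cfsg.Agent.Lib.Helper60.Cert
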