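import Cfsg.Agent.Lib.Helper60.Cert.Basic

/-!
Sylow subgroups with normal-closure certificates, and the resulting simplicity criterion, on
top of the generic layer of packed matrix groups.
-/

set_option autoImplicit false

namespace Cfsg.Agent.Lib.Helper60.Cert

open Cfsg.Agent.Lib.Helper60.J3 (simple_of_sylow_certs)

/-- an enumerated `p`-subgroup together with, for every element, either a generator with which
it does not commute or a conjugator `W c` such that the product of the element with its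
conjugate has order divisible by `q` -/
structure SData where
  L : LData
  fl : ℕ → ℕ
  cw : ℕ → ℕ
  nW : ℕ
  W : ℕ → ℕ
  Wi : ℕ → ℕ
  q : ℕ
  e : ℕ

section

variable {M : Type*} [Monoid M] (μ : Model M)

/-- the product of an element and a conjugate of it -/
def certP (D : SData) (j : ℕ) : ℕ :=
  μ.mulP (D.L.T j) (μ.mulP (D.W (D.cw j)) (μ.mulP (D.L.T j) (D.Wi (D.cw j))))

def chkW (D : SData) (c : ℕ) : Bool := Nat.beq (μ.mulP (D.W c) (D.Wi c)) μ.oneP

def chkFl (D : SData) (j : ℕ) : Bool :=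
  match D.fl j with
  | 0 => Nat.beq (D.L.T j) μ.oneP
  | 1 => Nat.blt (D.cw j) D.nW && Nat.beq (μ.powP (certP μ D j) (Nat.mul D.q D.e)) μ.oneP &&
      μ.neq (μ.powP (certP μ D j) D.e) μ.oneP
  | l + 2 => Nat.blt l D.L.r &&
      μ.neq (μ.mulP (D.L.T j) (D.L.gen l)) (μ.mulP (D.L.gen l) (D.L.T j))

structure SOK (D : SData) : Prop where
  l : LOK μ D.L
  w : ∀ c < D.nW, chkW μ D c = true
  fl : ∀ j < D.L.N, chkFl μ D j = true

/-- a word in the generators evaluates to the target -/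
def chkWord (gen : ℕ → ℕ) (r : ℕ) (w : List ℕ) (target : ℕ) : Bool :=
  w.all (fun k => Nat.blt k r) && Nat.beq (μ.evalW gen w) target

variable {μ}
variable {𝒢 : Type*} [Group 𝒢] {ψ : 𝒢 →* M}

theorem real_of_chkWord {S : Subgroup 𝒢} {gen : ℕ → ℕ} {r : ℕ} (h : ∀ l < r, Real μ ψ S (gen l))
    {w : List ℕ} {target : ℕ} (hc : chkWord μ gen r w target = true) : Real μ ψ S target := by
  simp only [chkWord, Bool.and_eq_true, List.all_eq_true, Nat.blt_eq] at hc
  exact (Real.evalW gen w (fun k hk => h k (hc.1 k hk))).of_eq (Nat.eq_of_beq_eq_true hc.2)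

theorem syl_cert [Finite 𝒢] (hψ : Function.Injective ψ) (H : Subgroup 𝒢) {D : SData}
    (ok : SOK μ D) (hgen : ∀ l < D.L.r, Real μ ψ H (D.L.gen l))
    (hW : ∀ c < D.nW, Real μ ψ H (D.W c)) (hq : D.q.Prime) (p e : ℕ) [Fact p.Prime]
    (hN : D.L.N = p ^ e) (hidx : ¬ p ∣ Nat.card H / D.L.N) :
    ∃ P : Subgroup H, IsPGroup p P ∧ ¬ p ∣ P.index ∧
      ∀ z ∈ P, z ≠ 1 → (∀ g ∈ P, g * z = z * g) →
        ∃ u ∈ Subgroup.normalClosure {z}, D.q ∣ orderOf u := by
  have hle : genGrp μ ψ D.L.gen D.L.r ≤ H := genGrp_le hψ H hgen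
  have hex : ∀ l < D.L.r, ∃ g, ψ g = μ.toM (D.L.gen l) := by
    intro l hl
    obtain ⟨g, _, hg⟩ := hgen l hl
    exact ⟨g, hg⟩
  have hcard : Nat.card ((genGrp μ ψ D.L.gen D.L.r).subgroupOf H) = D.L.N := by
    rw [← card_L ok.l hψ hex]
    exact Nat.card_congr (Subgroup.subgroupOfEquivOfLe hle).toEquiv
  refine ⟨(genGrp μ ψ D.L.gen D.L.r).subgroupOf H, IsPGroup.of_card (hcard.trans hN), ?_, ?_⟩
  · intro hdiv
    have h2 : ((genGrp μ ψ D.L.gen D.L.r).subgroupOf H).index = Nat.card H / D.L.N := by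
      have := ((genGrp μ ψ D.L.gen D.L.r).subgroupOf H).index_mul_card
      rw [hcard] at this
      rw [← this, Nat.mul_div_cancel _ ok.l.npos]
    rw [h2] at hdiv
    exact hidx hdiv
  · rintro z hz hz1 hzc
    have hzP : (z : 𝒢) ∈ genGrp μ ψ D.L.gen D.L.r := Subgroup.mem_subgroupOf.mp hz
    obtain ⟨j, hj, hjv⟩ := L_sub ok.l _ hzP
    have hfl := ok.fl j hj
    unfold chkFl at hfl
    split at hfl
    · exfalso; apply hz1
      apply Subtype.ext; apply hψ
      rw [hjv, Nat.eq_of_beq_eq_true hfl, μ.toM_one, Subgroup.coe_one, map_one]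
    · simp only [Bool.and_eq_true, Nat.blt_eq] at hfl
      obtain ⟨⟨hc, h1⟩, h2⟩ := hfl
      have h1 := Nat.eq_of_beq_eq_true h1
      have hw1 := Nat.eq_of_beq_eq_true (ok.w _ hc)
      obtain ⟨w, hwH, hwv⟩ := hW _ hc
      have hwi : ψ w⁻¹ = μ.toM (D.Wi (D.cw j)) := by
        have e1 : ψ w * μ.toM (D.Wi (D.cw j)) = 1 := by
          rw [hwv, μ.mul_eq hw1, μ.toM_one]
        calc ψ w⁻¹ = ψ w⁻¹ * (ψ w * μ.toM (D.Wi (D.cw j))) := by rw [e1, mul_one]
          _ = μ.toM (D.Wi (D.cw j)) := by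
            rw [← mul_assoc, ← map_mul, inv_mul_cancel, map_one, one_mul]
      have huv : ψ ((z * ((⟨w, hwH⟩ : H) * z * (⟨w, hwH⟩ : H)⁻¹) : H) : 𝒢)
          = μ.toM (certP μ D j) := by
        change ψ ((z : 𝒢) * (w * z * w⁻¹)) = _
        rw [map_mul, map_mul, map_mul, hjv, hwv, hwi, certP, μ.toM_mul, μ.toM_mul, μ.toM_mul,
          mul_assoc]
      refine ⟨z * ((⟨w, hwH⟩ : H) * z * (⟨w, hwH⟩ : H)⁻¹), ?_, ?_⟩
      · apply Subgroup.mul_mem
        · exact Subgroup.subset_normalClosure (Set.mem_singleton _)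
        · exact Subgroup.normalClosure_normal.conj_mem _
            (Subgroup.subset_normalClosure (Set.mem_singleton _)) _
      · rw [← Subgroup.orderOf_coe]
        exact prime_dvd_orderOf hψ hq huv h1 h2
    · rename_i l _
      exfalso
      simp only [Bool.and_eq_true, Nat.blt_eq] at hfl
      obtain ⟨hl, hne⟩ := hfl
      obtain ⟨g, hgH, hgv⟩ := hgen l hl
      have hgP : (⟨g, hgH⟩ : H) ∈ (genGrp μ ψ D.L.gen D.L.r).subgroupOf H :=
        Subgroup.mem_subgroupOf.mpr (Subgroup.subset_closure ⟨l, hl, hgv⟩)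
      have hcomm := hzc ⟨g, hgH⟩ hgP
      have h' := congrArg (fun t : H => ψ (t : 𝒢)) hcomm
      simp only [Subgroup.coe_mul, map_mul, hgv, hjv, ← μ.toM_mul] at h'
      exact μ.toM_ne hne h'.symm

theorem card_dvd_of_lok [Finite 𝒢] (hψ : Function.Injective ψ) (H : Subgroup 𝒢) {D : LData}
    (ok : LOK μ D) (hgen : ∀ l < D.r, Real μ ψ H (D.gen l)) : D.N ∣ Nat.card H := by
  have hex : ∀ l < D.r, ∃ g, ψ g = μ.toM (D.gen l) := by
    intro l hl
    obtain ⟨g, _, hg⟩ := hgen l hl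
    exact ⟨g, hg⟩
  rw [← card_L ok hψ hex]
  exact Subgroup.card_dvd_of_le (genGrp_le hψ H hgen)

theorem closure_subtype_eq_top {G : Type*} [Group G] (H : Subgroup G) (S : Set G)
    (h : H ≤ Subgroup.closure S) (hS : S ⊆ H) :
    Subgroup.closure {s : H | (s : G) ∈ S} = ⊤ := by
  rw [eq_top_iff]
  rintro ⟨g, hg⟩ _
  have key : ∀ x ∈ Subgroup.closure S,
      ∃ hx : x ∈ H, (⟨x, hx⟩ : H) ∈ Subgroup.closure {s : H | (s : G) ∈ S} := by
    intro x hx
    induction hx using Subgroup.closure_induction with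
    | mem x hx => exact ⟨hS hx, Subgroup.subset_closure hx⟩
    | one => exact ⟨H.one_mem, Subgroup.one_mem _⟩
    | mul x y _ _ ihx ihy =>
      obtain ⟨hx, hx'⟩ := ihx
      obtain ⟨hy, hy'⟩ := ihy
      exact ⟨H.mul_mem hx hy, Subgroup.mul_mem _ hx' hy'⟩
    | inv x _ ih =>
      obtain ⟨hx, hx'⟩ := ih
      exact ⟨H.inv_mem hx, Subgroup.inv_mem _ hx'⟩
  obtain ⟨_, h2⟩ := key g (h hg)
  exact h2

/-- simplicity from generators of prime order `q` and Sylow certificates -/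
theorem simple_of_certs [Finite 𝒢] (hψ : Function.Injective ψ) (H : Subgroup 𝒢) (q : ℕ)
    [Fact q.Prime] (hq2 : ¬ q ^ 2 ∣ Nat.card H) (hnt : 1 < Nat.card H)
    (qgen : ℕ → ℕ) (rq : ℕ) (hqreal : ∀ l < rq, Real μ ψ H (qgen l))
    (hqord : ∀ l < rq, μ.powP (qgen l) q = μ.oneP ∧ μ.neq (qgen l) μ.oneP = true)
    (hqgen : H ≤ genGrp μ ψ qgen rq)
    (hP : ∀ p : ℕ, p.Prime → p ∣ Nat.card H → p ≠ q →
      ∃ P : Subgroup H, IsPGroup p P ∧ ¬ p ∣ P.index ∧
        ∀ z ∈ P, z ≠ 1 → (∀ g ∈ P, g * z = z * g) →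
          ∃ u ∈ Subgroup.normalClosure {z}, q ∣ orderOf u) :
    IsSimpleGroup H := by
  haveI : Nontrivial H := Finite.one_lt_card_iff_nontrivial.mp hnt
  refine simple_of_sylow_certs q hq2 {s : H | ∃ l < rq, ψ (s : 𝒢) = μ.toM (qgen l)} ?_ ?_ hP
  · refine closure_subtype_eq_top H {g | ∃ l < rq, ψ g = μ.toM (qgen l)} hqgen ?_
    rintro g ⟨l, hl, hg⟩
    obtain ⟨g', hg', hv⟩ := hqreal l hl
    have : g = g' := hψ (by rw [hg, hv])
    rw [this]; exact hg'
  · rintro s ⟨l, hl, hs⟩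
    rw [← Subgroup.orderOf_coe]
    exact orderOf_eq_prime_of hψ hs (hqord l hl).1 (hqord l hl).2

end

end Cfsg.Agent.Lib.Helper60.Cert
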